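import Mathlib
import Cfsg.Agent.Lib.Frob4.Alt
import Cfsg.Agent.Lib.Gold.Defs

/-!
Package REG: 2-groups with an involutory automorphism with two fixed points; regular normal subgroups of two-point stabilisers.  See `plans/FROB4.md`.
-/

set_option autoImplicit false
set_option maxHeartbeats 400000

namespace CfsgLib.Frob4

open MulAction Subgroup
open scoped Pointwise

variable {G Ω : Type*} [Group G] [MulAction G Ω] [Finite G] [Finite Ω]

theorem bt_of_btype {L : Type*} [Group L] [Finite L] (h : Gold.BType L) (T : Sylow 2 L) :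
    BT (T : Subgroup L) := by
  refine ⟨h.four_pow T, fun x hx h1 => ?_⟩
  obtain ⟨W, -, h2, -, h3, -⟩ := h.three T x hx h1
  have h4 : 1 < Nat.card (Cfsg.omegaOne 2 (T : Subgroup L)) := by
    refine (one_lt_card_iff_ne_bot _).2 fun e => h1 (mem_bot.1 (e ▸ subset_closure ⟨mul_mem hx hx, ?_⟩))
    rw [sq, h.four_pow T x hx]
  have := card_le_of_le h2
  omega

omit [Finite G] in
theorem BT.map {L : Type*} [Group L] {T : Subgroup L} (h : BT T) {f : L →* G}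
    (hf : Function.Injective f) : BT (T.map f) := by
  refine ⟨?_, ?_⟩
  · rintro _ ⟨t, ht, rfl⟩
    rw [← map_mul, ← map_mul, h.four t ht, map_one]
  · rintro _ ⟨t, ht, rfl⟩ h1
    rw [card_map_of_injective hf]
    exact h.big t ht fun e => h1 (by rw [← map_mul, e, map_one])

theorem Regx.fib {T : Subgroup G} {u : G} (h2 : Nat.card ↥(T ⊓ centralizer {u}) ≤ 2) {S B : Set G}
    (hS : S ⊆ T) (hB : ∀ x ∈ S, x⁻¹ * (u * x * u) ∈ B) : S.ncard ≤ 2 * B.ncard := by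
  classical
  rw [Set.ncard_eq_toFinset_card S, Set.ncard_eq_toFinset_card B]
  refine Finset.card_le_mul_card_image_of_maps_to (f := fun x => x⁻¹ * (u * x * u)) (by simpa using hB) 2
    fun b _ => ?_
  rcases ((Set.toFinite S).toFinset.filter fun x => x⁻¹ * (u * x * u) = b).eq_empty_or_nonempty with e | ⟨y, hy⟩
  · rw [e]; simp
  refine le_trans ?_ h2
  rw [← Nat.card_eq_finsetCard]
  simp only [Finset.mem_filter, Set.Finite.mem_toFinset] at hy
  refine Nat.card_le_card_of_injective (fun x => ⟨y * x.1⁻¹, ?_⟩) fun x x' e => Subtype.ext ?_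
  · have hx := x.2
    simp only [Finset.mem_filter, Set.Finite.mem_toFinset] at hx
    refine mem_inf.2 ⟨mul_mem (hS hy.1) (T.inv_mem (hS hx.1)), mem_centralizer_singleton_iff.2 ?_⟩
    have e := hx.2.trans hy.2.symm
    calc _ = y * (x.1⁻¹ * (u * x.1 * u)) * u⁻¹ * x.1⁻¹ := by group
      _ = _ := by rw [e]; group
  · simpa using e

theorem BT.card_le {T : Subgroup G} (h : BT T) {u : G} (hu : u * u = 1)
    (hn : u ∈ normalizer (T : Set G)) (h2 : Nat.card ↥(T ⊓ centralizer {u}) ≤ 2) :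
    Nat.card T ≤ 4 := by
  have ui : u⁻¹ = u := inv_eq_of_mul_eq_one_left hu
  have cT : ∀ x ∈ T, x⁻¹ * (u * x * u) ∈ T := fun x hx =>
    mul_mem (inv_mem hx) (by simpa [ui] using (mem_normalizer_iff.1 hn x).1 hx)
  have cu : ∀ x : G, u * (x⁻¹ * (u * x * u)) * u = (x⁻¹ * (u * x * u))⁻¹ := fun x => by
    rw [mul_inv_rev, mul_inv_rev, mul_inv_rev, ui, inv_inv]
    calc _ = u * x⁻¹ * u * x * (u * u) := by group
      _ = _ := by rw [hu]; group
  have hY : {x | x ∈ T ∧ x⁻¹ * (u * x * u) * (x⁻¹ * (u * x * u)) = 1}.ncard ≤ 4 := by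
    refine (Regx.fib h2 (B := (T ⊓ centralizer {u} : Subgroup G)) (fun x hx => hx.1) fun x hx =>
      ⟨cT x hx.1, mem_centralizer_singleton_iff.2 ?_⟩).trans ?_
    · have := cu x
      rw [inv_eq_of_mul_eq_one_left hx.2] at this
      calc _ = u * (x⁻¹ * (u * x * u)) * u * u := by rw [this]
        _ = _ := by rw [mul_assoc _ u u, hu, mul_one]
    · rw [← Nat.card_coe_set_eq]
      change 2 * Nat.card ↥(T ⊓ centralizer {u}) ≤ 4
      omega
  have h8 : (T : Set G).ncard ≤ 2 * 4 := (Regx.fib h2 (B := {x | x ∈ T ∧ x⁻¹ * (u * x * u) * (x⁻¹ * (u * x * u)) = 1})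
    subset_rfl fun x hx => ⟨cT x hx, by
    rw [cu, ← mul_inv_rev, ← mul_inv_rev, h.four _ (cT x hx), inv_one]⟩).trans (Nat.mul_le_mul_left 2 hY)
  rw [← Nat.card_coe_set_eq] at h8
  change Nat.card T ≤ 2 * 4 at h8
  refine le_trans ?_ hY
  change Nat.card (T : Set G) ≤ _
  rw [Nat.card_coe_set_eq]
  refine Set.ncard_le_ncard fun x hx => ⟨hx, ?_⟩
  by_contra k
  have := h.big _ (cT x hx) k
  omega

theorem reg [FaithfulSMul G Ω] (h4 : T4 (⊤ : Subgroup G) (Set.univ : Set Ω)) {a b : Ω} (hab : a ≠ b)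
    {N : Subgroup G} (hN : N ≤ St G ({a, b} : Set Ω))
    (hn : St G ({a, b} : Set Ω) ≤ normalizer (N : Set G)) (hr : Rg N ({a, b} : Set Ω)ᶜ)
    {t : G} (ht : orderOf t = 2) (hf : 4 ≤ (fixedBy Ω t).ncard) : Nat.card Ω ≤ 6 := by
  by_contra h7
  obtain ⟨c, ac, bc, -⟩ := Altx.exists_ne3 (by omega) a b b
  obtain ⟨d, ad, bd, cd⟩ := Altx.exists_ne3 (by omega) a b c
  have D : D4 a b c d := ⟨hab, ac, ad, bc, bd, cd⟩
  have mS : ∀ {x}, x ∈ ({a, b} : Set Ω)ᶜ ↔ a ≠ x ∧ b ≠ x := by simp [eq_comm]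
  have mSt : ∀ {g : G}, g ∈ St G ({a, b} : Set Ω) ↔ g • a = a ∧ g • b = b := by simp [mem_St]
  have cS := mS.2 ⟨ac, bc⟩
  have cN : Nat.card N + 2 = Nat.card Ω := by
    rw [← hr.card cS, ← Set.ncard_pair hab, add_comm, Set.ncard_add_ncard_compl]
  have cj : ∀ ν ∈ N, ν ≠ 1 → ∀ μ ∈ N, μ ≠ 1 → ∃ g ∈ St G ({a, b} : Set Ω), g * ν * g⁻¹ = μ :=
    fun ν hν h1 μ hμ h2 => by
      have k1 := mS.1 (hr.inv ν hν c cS)
      have k2 := mS.1 (hr.inv μ hμ c cS)
      obtain ⟨g, e1, e2, e3, e4⟩ := h4.top ⟨hab, ac, k1.1, bc, k1.2, fun e => h1 (hr.free c cS ν hν e.symm)⟩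
        ⟨hab, ac, k2.1, bc, k2.2, fun e => h2 (hr.free c cS μ hμ e.symm)⟩
      have hg := mSt.2 ⟨e1, e2⟩
      refine ⟨g, hg, (inv_mul_eq_one.1 (hr.free c cS _ (mul_mem (inv_mem hμ)
        ((mem_normalizer_iff.1 (hn hg) ν).1 hν)) ?_)).symm⟩
      rw [mul_smul, inv_smul_eq_iff, ← e4]
      nth_rewrite 1 [← e3]
      rw [conj_smul]
  obtain ⟨p, hp, hd⟩ := Nat.exists_prime_and_dvd (show Nat.card N ≠ 1 by omega)
  have := Fact.mk hp
  obtain ⟨ν, hν⟩ := exists_prime_orderOf_dvd_card' p hd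
  have ν1 : (ν : G) ≠ 1 := fun e => hp.ne_one (by rw [← hν, show ν = 1 from Subtype.ext e, orderOf_one])
  have pw : ∀ μ ∈ N, μ ^ p = 1 := fun μ hμ => by
    by_cases e : μ = 1
    · rw [e, one_pow]
    obtain ⟨g, -, rfl⟩ := cj ν ν.2 ν1 μ hμ e
    rw [conj_pow, ← hν, ← Subgroup.coe_pow, pow_orderOf_eq_one]
    simp
  have hP : IsPGroup p N := fun μ => ⟨1, Subtype.ext (by rw [pow_one]; exact pw μ μ.2)⟩
  have cm : ∀ μ ∈ N, ∀ μ' ∈ N, μ * μ' = μ' * μ := fun μ hμ μ' hμ' => by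
    have : Nontrivial N := Finite.one_lt_card_iff_nontrivial.1 (by omega)
    have := hP.center_nontrivial
    obtain ⟨z, hz⟩ := exists_ne (1 : center N)
    by_cases e : μ = 1
    · rw [e, one_mul, mul_one]
    obtain ⟨g, hg, rfl⟩ := cj z.1 z.1.2 (fun k => hz (Subtype.ext (Subtype.ext k))) μ hμ e
    have := congrArg Subtype.val (mem_center_iff.1 z.2 ⟨_, (mem_normalizer_iff''.1 (hn hg) μ').1 hμ'⟩)
    change g⁻¹ * μ' * g * z.1 = z.1 * (g⁻¹ * μ' * g) at this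
    calc _ = g * (z.1 * (g⁻¹ * μ' * g)) * g⁻¹ := by group
      _ = _ := by rw [← this]; group
  have tt : t * t = 1 := by rw [← sq, ← ht, pow_orderOf_eq_one]
  obtain ⟨x, hx⟩ : ∃ x : Ω, t • x ≠ x := by
    by_contra k
    push Not at k
    rw [FaithfulSMul.eq_of_smul_eq_smul (α := Ω) fun x => (k x).trans (one_smul G x).symm, orderOf_one] at ht
    omega
  obtain ⟨y1, f1, y2, f2, y3, f3, y4, f4, hy⟩ := exists_D4_of_le hf
  have tx : t • t • x = x := by rw [← mul_smul, tt, one_smul]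
  have n1 : ∀ y ∈ fixedBy Ω t, x ≠ y ∧ t • x ≠ y := fun y hy =>
    ⟨fun e => hx (e ▸ hy), fun e => hx (tx.symm.trans (e ▸ hy)).symm⟩
  obtain ⟨g, ea, eb, ec, -⟩ := h4.top ⟨hx.symm, (n1 _ f1).1, (n1 _ f2).1, (n1 _ f1).2, (n1 _ f2).2, hy.1⟩ D
  obtain ⟨k, ka, kb, kc, kd⟩ := h4.top hy D
  have m1 := ncard_fixedBy_conj (Ω := Ω) g t
  have m2 := ncard_fixedBy_conj (Ω := Ω) k t
  have ua : (g * t * g⁻¹) • a = b := by rw [← ea, conj_smul, eb]
  have ub : (g * t * g⁻¹) • b = a := by rw [← eb, conj_smul, tx, ea]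
  have uc : (g * t * g⁻¹) • c = c := by rw [← ec, conj_smul, f1]
  have va : (k * t * k⁻¹) • a = a := by rw [← ka, conj_smul, f1]
  have vb : (k * t * k⁻¹) • b = b := by rw [← kb, conj_smul, f2]
  have vc : (k * t * k⁻¹) • c = c := by rw [← kc, conj_smul, f3]
  have uu := Perm2.conj_mul_self tt g
  have vv := Perm2.conj_mul_self tt k
  generalize g * t * g⁻¹ = u at m1 ua ub uc uu
  generalize k * t * k⁻¹ = v at m2 va vb vc vv
  have ui : u⁻¹ = u := inv_eq_of_mul_eq_one_left uu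
  have uSt : ∀ h ∈ St G ({a, b} : Set Ω), u * h * u⁻¹ ∈ St G ({a, b} : Set Ω) := fun h hh => by
    rw [mSt, ui, mul_smul, mul_smul, mul_smul, mul_smul, ua, ub, (mSt.1 hh).1, (mSt.1 hh).2]
    exact ⟨ub, ua⟩
  have nN' : ∀ h ∈ St G ({a, b} : Set Ω), ∀ μ, u * μ * u⁻¹ ∈ N → u * (h * μ * h⁻¹) * u⁻¹ ∈ N := fun h hh μ hμ => by
    convert (mem_normalizer_iff.1 (hn (uSt h hh)) _).1 hμ using 1
    group
  have uN : u ∈ normalizer (N : Set G) := by
    by_cases e : ∃ μ ∈ N, μ ≠ 1 ∧ u * μ * u⁻¹ ∈ N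
    · obtain ⟨μ, hμ, h1, h2⟩ := e
      refine mem_normalizer_fintype fun μ' hμ' => ?_
      by_cases e : μ' = 1
      · rw [e]; simp
      obtain ⟨h, hh, rfl⟩ := cj μ hμ h1 μ' hμ' e
      exact nN' h hh μ h2
    exfalso
    push Not at e
    have uS : ∀ y ∈ ({a, b} : Set Ω)ᶜ, u • y ∈ ({a, b} : Set Ω)ᶜ := fun y hy =>
      mS.2 ⟨fun l => (mS.1 hy).2 (smul_left_cancel u (ub.trans l)), fun l => (mS.1 hy).1 (smul_left_cancel u (ua.trans l))⟩
    obtain ⟨μ, hμ, l⟩ := hr.tr c cS _ (uS _ (hr.inv ν ν.2 c cS))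
    have w1 : u * μ * u⁻¹ ∈ St G ({a, b} : Set Ω) := uSt μ (hN hμ)
    have w2 : u * (u * μ * u⁻¹) * u⁻¹ ∈ N := by
      rw [show u * (u * μ * u⁻¹) * u⁻¹ = u * u * μ * (u * u)⁻¹ by group, uu]
      simpa using hμ
    have w3 : (u * μ * u⁻¹) • c = (ν : G) • c := by
      rw [ui, mul_smul, mul_smul, uc, l, ← mul_smul, uu, one_smul]
    generalize u * μ * u⁻¹ = w at w1 w2 w3
    have w4 : ∀ κ ∈ N, κ * w = w * κ := fun κ hκ => by
      by_contra l
      refine e (κ * (w * κ⁻¹ * w⁻¹)) (mul_mem hκ ((mem_normalizer_iff.1 (hn w1) _).1 (inv_mem hκ)))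
        (fun l' => l (by
          rw [← one_mul (w * κ), ← l']
          group)) ?_
      convert mul_mem (nN' κ (hN hκ) w w2) (inv_mem w2) using 1
      group
    have w5 : (ν : G)⁻¹ * w = 1 := FaithfulSMul.eq_of_smul_eq_smul (α := Ω) fun y => by
      have m := mSt.1 (mul_mem (inv_mem (hN ν.2)) w1)
      rw [one_smul]
      by_cases ya : a = y
      · exact ya ▸ m.1
      by_cases yb : b = y
      · exact yb ▸ m.2
      obtain ⟨κ, hκ, rfl⟩ := hr.tr c cS y (mS.2 ⟨ya, yb⟩)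
      refine smul_fix ?_ (by rw [mul_smul, w3, inv_smul_smul])
      rw [← mul_assoc, cm κ hκ _ (inv_mem ν.2), mul_assoc, w4 κ hκ, mul_assoc]
    exact e ν ν.2 ν1 (inv_mul_eq_one.1 w5 ▸ w2)
  have vN := hn (mSt.2 ⟨va, vb⟩)
  have c1 := hr.ncard_fix uN cS uc
  have c2 := hr.ncard_fix vN cS vc
  have c0 : fixedBy Ω u ⊆ ({a, b} : Set Ω)ᶜ := fun y (hy : u • y = y) => mS.2
    ⟨fun l => hab (l.trans (hy.symm.trans (l ▸ ua))), fun l => hab ((l ▸ ub).symm.trans (hy.trans l.symm))⟩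
  rw [Set.inter_eq_right.2 c0] at c1
  have c3 : (({a, b} : Set Ω)ᶜ ∩ fixedBy Ω v).ncard + 2 = (fixedBy Ω v).ncard := by
    rw [← Set.ncard_pair hab, Set.inter_comm, ← Set.sdiff_eq]
    refine Set.ncard_sdiff_add_ncard_of_subset ?_
    rintro _ (rfl | rfl)
    exacts [va, vb]
  obtain ⟨i, hi⟩ := (hP.to_inf_left (K := centralizer {u})).exists_card_eq
  obtain ⟨j, hj⟩ := (hP.to_inf_left (K := centralizer {v})).exists_card_eq
  have e : p ^ j + 2 = p ^ i := by omega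
  have j2 : 2 ≤ p ^ j := by omega
  have j0 : j ≠ 0 := by rintro rfl; simp at j2
  have i0 : i ≠ 0 := by rintro rfl; simp at e
  obtain rfl : p = 2 := (Nat.prime_dvd_prime_iff_eq hp Nat.prime_two).1
    ((Nat.dvd_add_right (dvd_pow_self p j0)).1 (e ▸ dvd_pow_self p i0))
  have j1 : 2 ^ j ≤ 2 := by
    by_contra l
    have l1 : 2 ≤ j := by
      by_contra l1
      interval_cases j <;> omega
    have l2 : 2 ≤ i := by
      by_contra l2
      interval_cases i <;> omega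
    have := (Nat.dvd_add_right (pow_dvd_pow 2 l1)).1 (e ▸ pow_dvd_pow 2 l2)
    norm_num at this
  have bt : BT N := ⟨fun μ hμ => by rw [← sq μ, pw μ hμ, one_mul], fun μ hμ l => (l (by rw [← sq, pw μ hμ])).elim⟩
  have := bt.card_le vv vN (hj ▸ j1)
  omega

end CfsgLib.Frob4
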