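import Mathlib
import Cfsg.Agent.Lib.Frob4.Defs
import Cfsg.Agent.Lib.Frob4.Kbc
import Cfsg.Agent.S0413
import Cfsg.Agent.S1664
import Cfsg.Agent.Lib.PSL2Rec.Basic

/-!
Package KB: the Steiner system `S(4,7,23)`.  See `plans/FROB4.md`.
-/

set_option autoImplicit false

namespace CfsgLib.Frob4

open MulAction Subgroup
open scoped Pointwise

variable {G Ω : Type*} [Group G] [MulAction G Ω] [Finite G] [Finite Ω] [FaithfulSMul G Ω]

omit [Finite Ω] [FaithfulSMul G Ω] in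
/-- one step down in a chain of 2-subgroups -/
theorem kb_chain {D₀ : Subgroup G} (h2 : IsPGroup 2 D₀) (hne : Fx Ω D₀ ≠ Set.univ) :
    ∃ D ≤ D₀, ∃ w ∈ normalizer (D : Set G), w * w ∈ D ∧ Fx Ω D ∩ fixedBy Ω w = Fx Ω D₀ ∧
      ¬ Fx Ω D ⊆ fixedBy Ω w := by
  obtain ⟨D, -, hD⟩ := Finite.exists_le_maximal (p := fun D : Subgroup G => D ≤ D₀ ∧ Fx Ω D ≠ Fx Ω D₀)
    (a := ⊥) ⟨bot_le, fun e => hne (e ▸ Set.eq_univ_of_forall fun x g hg => by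
      rw [mem_bot.1 hg, one_smul])⟩
  obtain ⟨s, hs, hs'⟩ := SetLike.exists_of_lt (Core.lt_inf_normalizer_of_isPGroup h2
    (hD.prop.1.lt_of_ne fun e => hD.prop.2 (e ▸ rfl)))
  obtain ⟨n, e1, e2⟩ := (two_of_mem h2 hs.1).exists_sq_mem hs'
  have e3 : Fx Ω D ∩ fixedBy Ω (s ^ n) = Fx Ω D₀ := by
    have e4 : Fx Ω (D ⊔ zpowers (s ^ n)) = Fx Ω D₀ := by_contra fun e => e1
      (hD.2 ⟨sup_le hD.prop.1 (zpowers_le.2 (pow_mem hs.1 n)), e⟩ le_sup_left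
        (mem_sup_right (mem_zpowers _)))
    rw [← e4]
    ext x
    exact ⟨fun hx => (sup_le hx.1 (zpowers_le.2 hx.2) : _ ≤ stabilizer G x), fun hx =>
      ⟨fun g hg => hx g (mem_sup_left hg), hx _ (mem_sup_right (mem_zpowers _))⟩⟩
  exact ⟨D, hD.prop.1, s ^ n, pow_mem hs.2 n, e2, e3,
    fun e => hD.prop.2 (by rw [← e3, Set.inter_eq_left.2 e])⟩

theorem kb_num {κ : ℕ} (h : HB G Ω κ) {Δ : Set Ω} (hd : Δ.ncard = 4) (hk : Fx Ω (Pd G Δ) ≠ Δ) :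
    Nat.card Ω = 23 ∧ ∀ Δ : Set Ω, Δ.ncard = 4 → (Fx Ω (Pd G Δ)).ncard = 7 := by
  have hc : ∀ Δ' : Set Ω, Δ'.ncard = 4 → (Fx Ω (Pd G Δ')).ncard = (Fx Ω (Pd G Δ)).ncard := fun Δ' h' => by
    obtain ⟨g, -, rfl⟩ := h.t4.set (Set.subset_univ _) (Set.subset_univ _) hd h'
    rw [Fx_Pd_smul, Set.ncard_smul_set]
  have h5 : 5 ≤ (Fx Ω (Pd G Δ)).ncard := by
    have := Set.ncard_lt_ncard ((subset_Fx_Pd (G := G) Δ).ssubset_of_ne hk.symm)
    omega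
  have h2 := h.isPGroup hd.ge
  obtain ⟨D, hD, w, h1, h3, h4, h6⟩ := kb_chain (Ω := Ω) h2 fun e => h.Pd_ne_bot hd (eq_bot_iff.2
    (St_univ (G := G) (Ω := Ω) ▸ fun g hg => mem_St.2 fun x hx => (e ▸ hx : x ∈ Fx Ω (Pd G Δ)) g hg))
  obtain ⟨a1, a2, a3, a4⟩ := kbc h hc h5 (h2.to_le hD) h1 h3 (congrArg Set.ncard h4) (by omega) h6
  have h7 : (Fx Ω (Pd G Δ)).ncard = 7 := by
    rcases a1 with e | e | e | e <;> rw [e] at a2 a3 a4 ⊢ <;> omega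
  rw [h7] at a4 hc
  refine ⟨?_, hc⟩
  have h8 : (Fx Ω D).ncard = 23 := by omega
  by_contra e
  obtain ⟨D', hD', w', b1, b2, b3, b4⟩ := kb_chain (Ω := Ω) (h2.to_le hD) fun e' => e (by
    rw [← h8, e', Set.ncard_univ])
  have := (kbc h hc (by omega) ((h2.to_le hD).to_le hD') b1 b2 ((congrArg Set.ncard b3).trans h8)
    (by omega) b4).2.1
  omega

omit [Finite Ω] [FaithfulSMul G Ω] in
theorem kb_six {κ : ℕ} (h : HB G Ω κ) {Δ : Set Ω} (hd : Δ.ncard = 4) : 6 ≤ Nat.card (St G Δ) := by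
  obtain ⟨t, ht, e1⟩ := h.exP Δ hd
  obtain ⟨g, hg, e2⟩ := h.exE Δ hd
  have h1 := ((h.split Δ hd.ge g hg).resolve_left e2).coprime_dvd_right h.two
  have h2 : orderOf g * 2 ∣ Nat.card (St G Δ) :=
    h1.mul_dvd_of_dvd_of_dvd (orderOf_dvd_natCard _ hg) (e1 ▸ orderOf_dvd_natCard _ ht)
  have h3 := Nat.le_of_dvd Nat.card_pos h2
  have h4 : orderOf g ≠ 1 := fun e => e2 (by rw [orderOf_eq_one_iff.1 e, one_pow])
  obtain ⟨j, hj⟩ := Nat.coprime_two_right.1 h1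
  omega

theorem kb {κ : ℕ} (h : HB G Ω κ) {Δ : Set Ω} (hd : Δ.ncard = 4) (hk : Fx Ω (Pd G Δ) ≠ Δ) :
    Cfsg.Spor.IsoM23 G := by
  classical
  have := Fintype.ofFinite Ω
  obtain ⟨h23, h7⟩ := kb_num h hd hk
  rw [Nat.card_eq_fintype_card] at h23
  let B : Set (Finset Ω) := {s | ∃ Λ : Set Ω, Λ.ncard = 4 ∧ ↑s = Fx Ω (Pd G Λ)}
  have hB : Cfsg.IsSteinerSystem 4 7 B := by
    refine ⟨fun b ⟨Λ, h1, e⟩ => by rw [← Set.ncard_coe_finset, e, h7 Λ h1], fun s hs => ?_⟩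
    rw [← Set.ncard_coe_finset] at hs
    refine ⟨(Fx Ω (Pd G (s : Set Ω))).toFinset, ⟨⟨s, hs, Set.coe_toFinset _⟩, fun x hx =>
      Set.mem_toFinset.2 (subset_Fx_Pd _ hx)⟩, fun b ⟨⟨Λ, h1, e⟩, h2⟩ => Finset.coe_injective ?_⟩
    rw [Set.coe_toFinset, e, h.Pd_eq h1 hs (e ▸ Finset.coe_subset.2 h2)]
  obtain ⟨⟨hs, hA⟩, -⟩ := Cfsg.Agent.S0413.result h23 hB
  have key : ∀ g : G, ∀ b ∈ B, toPermHom G Ω g • b ∈ B := fun g b ⟨Λ, h1, e⟩ =>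
    ⟨g • Λ, by rwa [Set.ncard_smul_set], by rw [Fx_Pd_smul, ← e, Finset.coe_smul_finset]; rfl⟩
  have hle : (toPermHom G Ω).range ≤ Cfsg.setSystemAut B := by
    rintro _ ⟨g, rfl⟩
    refine mem_stabilizer_iff.2 (Set.Subset.antisymm (by rintro _ ⟨b, hb, rfl⟩; exact key g b hb)
      fun b hb => ⟨_, key g⁻¹ b hb, ?_⟩)
    simp only [map_inv, smul_inv_smul]
  have e := MonoidHom.ofInjective (f := toPermHom G Ω) toPerm_injective
  have h1 := (St G Δ).card_mul_index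
  rw [Perm2.index_fixing_eq (t4_iff.1 h.t4) hd, h23, Nat.card_congr e.toEquiv,
    ← Nat.card_congr (subgroupOfEquivOfLe hle).toEquiv] at h1
  have h2 := ((toPermHom G Ω).range.subgroupOf (Cfsg.setSystemAut B)).card_mul_index
  have h3 := kb_six h hd
  set R := (toPermHom G Ω).range.subgroupOf (Cfsg.setSystemAut B)
  have h4 : R.index ≤ 8 := by
    rw [← h1, hA] at h2
    simp only [Nat.descFactorial] at h2
    nlinarith
  have h5 : R = ⊤ := by_contra fun e => by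
    have := (PSL2Rec.simple_card_dvd_factorial e).trans (Nat.factorial_dvd_factorial h4)
    rw [hA] at this
    exact absurd this (by decide)
  have e' := (e.trans (subgroupOfEquivOfLe hle).symm).trans ((MulEquiv.subgroupCongr h5).trans topEquiv)
  exact Cfsg.Agent.S1664.result ⟨e'.isSimpleGroup, (Nat.card_congr e'.toEquiv).trans hA⟩

end CfsgLib.Frob4
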