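import Mathlib
import Cfsg.Agent.Lib.Frob4.Defs
import Cfsg.Agent.Lib.Frob4.Reg
import Cfsg.Agent.Lib.Frob4.Alt
import Cfsg.Agent.Lib.Frob4.Hall
import Cfsg.Agent.Lib.BCor.Str
import Cfsg.Agent.Lib.BenderRed.Final
import Cfsg.Agent.Lib.Sharp.Four

/-!
Package SRB: semiregular Sylow 2-subgroup of rank at least two.  See `plans/FROB4.md`.
-/

set_option autoImplicit false

namespace CfsgLib.Frob4

open MulAction Subgroup
open scoped Pointwise

variable {G Ω : Type*} [Group G] [MulAction G Ω] [Finite G] [Finite Ω] [FaithfulSMul G Ω]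

omit [Finite G] [Finite Ω] in
theorem srb_semi (h : SRH (⊤ : Subgroup G) (Set.univ : Set Ω)) {v : G} (h2 : Two v)
    (h5 : 5 ≤ (fixedBy Ω v).ncard) : v = 1 := by
  have := h.semi v trivial h2 (by rwa [Set.univ_inter])
  rwa [St_univ, mem_bot] at this

omit [Finite G] in
theorem srb_semi' (h : SRH (⊤ : Subgroup G) (Set.univ : Set Ω)) {v : G} (h2 : Two v) {Δ : Set Ω}
    (h4 : Δ.ncard = 4) (hv : v ∈ St G Δ) {x : Ω} (hx : x ∉ Δ) (e : v • x = x) : v = 1 := by
  refine srb_semi h h2 ?_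
  have := Set.ncard_le_ncard (s := insert x Δ) (t := fixedBy Ω v)
    (Set.insert_subset e fun z hz => mem_St.1 hv z hz)
  rwa [Set.ncard_insert_of_notMem hx, h4] at this

/-- the Sylow 2-subgroup of the four-point stabiliser -/
theorem srb_sylow (h : SRH (⊤ : Subgroup G) (Set.univ : Set Ω)) {s t : G} (hs : orderOf s = 2)
    (ht : orderOf t = 2) (hc : s * t = t * s) (hne : s ≠ t) {a b c d : Ω} (hd : D4 a b c d)
    (hsF : s ∈ St G ({a, b, c, d} : Set Ω)) (htF : t ∈ St G ({a, b, c, d} : Set Ω)) :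
    ∃ S : Subgroup G, BT S ∧ Rg S ({a, b, c, d} : Set Ω)ᶜ ∧
      ∀ g, g ∈ S ↔ g ∈ St G ({a, b, c, d} : Set Ω) ∧ Two g := by
  have : Fact (Nat.Prime 2) := ⟨Nat.prime_two⟩
  set Δ : Set Ω := {a, b, c, d} with hΔ
  have h4 : Δ.ncard = 4 := hd.ncard
  set H := St G ({a, b, c} : Set Ω) with hH
  have memH : ∀ g, g ∈ H ↔ g • a = a ∧ g • b = b ∧ g • c = c := fun g => by simp [hH, mem_St]
  set F : Subgroup H := (St G Δ).subgroupOf H with hF
  have hFH : St G Δ ≤ H := fun g hg =>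
    (memH g).2 ⟨(mem_St4.1 hg).1, (mem_St4.1 hg).2.1, (mem_St4.1 hg).2.2.1⟩
  have memF : ∀ g : H, g ∈ F ↔ (g : G) • d = d := fun g =>
    ⟨fun hg => (mem_St4.1 hg).2.2.2, fun hg => mem_St4.2
      ⟨((memH g).1 g.2).1, ((memH g).1 g.2).2.1, ((memH g).1 g.2).2.2, hg⟩⟩
  have htr : ∀ x ∉ Δ, ∃ g : H, (g : G) • d = x := by
    intro x hx
    simp only [hΔ, Set.mem_insert_iff, Set.mem_singleton_iff, not_or] at hx
    obtain ⟨g, e1, e2, e3, e4⟩ := h.t4.top hd (show D4 a b c x from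
      ⟨hd.1, hd.2.1, Ne.symm hx.1, hd.2.2.2.1, Ne.symm hx.2.1, Ne.symm hx.2.2.1⟩)
    exact ⟨⟨g, (memH g).2 ⟨e1, e2, e3⟩⟩, e4⟩
  have hout : ∀ g : H, g ∉ F → (g : G) • d ∉ Δ := by
    intro g hg hx
    obtain ⟨e1, e2, e3⟩ := (memH g).1 g.2
    simp only [hΔ, Set.mem_insert_iff, Set.mem_singleton_iff] at hx
    rcases hx with hx | hx | hx | hx
    · exact hd.2.2.1 (smul_left_cancel (g : G) (e1.trans hx.symm))
    · exact hd.2.2.2.2.1 (smul_left_cancel (g : G) (e2.trans hx.symm))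
    · exact hd.2.2.2.2.2 (smul_left_cancel (g : G) (e3.trans hx.symm))
    · exact hg ((memF g).2 hx)
  obtain ⟨x0, hx0⟩ : ∃ x, x ∉ Δ := by
    by_contra hc'
    push Not at hc'
    have := h.five
    rw [← Set.eq_univ_of_forall hc', h4] at this
    omega
  have hs1 : s ≠ 1 := fun e => by simp [e] at hs
  have ht1 : t ≠ 1 := fun e => by simp [e] at ht
  have hss : s * s = 1 := by rw [← sq, ← hs, pow_orderOf_eq_one]
  have htt : t * t = 1 := by rw [← sq, ← ht, pow_orderOf_eq_one]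
  have hse : Cfsg.IsStronglyEmbedded F := by
    refine ⟨fun e => ?_, ?_, fun g hg => ?_⟩
    · obtain ⟨g, hg⟩ := htr x0 hx0
      have : g ∈ F := e ▸ mem_top g
      rw [memF, hg] at this
      exact hx0 (by rw [this]; simp [hΔ])
    · have := orderOf_dvd_natCard (⟨⟨s, hFH hsF⟩, hsF⟩ : F)
      rw [← Subgroup.orderOf_coe, ← Subgroup.orderOf_coe] at this
      exact even_iff_two_dvd.2 (hs ▸ this)
    · refine Nat.not_even_iff_odd.1 fun he => ?_
      obtain ⟨v, hv⟩ := exists_prime_orderOf_dvd_card' 2 (even_iff_two_dvd.1 he)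
      rw [← Subgroup.orderOf_coe, ← Subgroup.orderOf_coe] at hv
      obtain ⟨hv1, k, hk, hk'⟩ := mem_inf.1 v.2
      have e0 : ((v : H) : G) = (g : G) * k * (g : G)⁻¹ := congrArg Subtype.val hk'.symm
      have e : ((v : H) : G) • (g : G) • d = (g : G) • d := by
        rw [e0, conj_smul, (memF k).1 hk]
      have := srb_semi' h (two_of_orderOf hv) h4 hv1 (hout g hg) e
      rw [this] at hv
      simp at hv
  have hr2 : Bender.Rank2 H := ⟨⟨s, hFH hsF⟩, ⟨t, hFH htF⟩, fun e => hs1 (congrArg Subtype.val e),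
    fun e => ht1 (congrArg Subtype.val e), fun e => hne (congrArg Subtype.val e),
    Subtype.ext hss, Subtype.ext htt, Subtype.ext hc⟩
  have hO : Cfsg.pPrimeCore 2 H = ⊥ := by
    refine eq_bot_iff.2 fun k hk => mem_bot.2 (Subtype.ext
      (FaithfulSMul.eq_of_smul_eq_smul (α := Ω) fun x => ?_))
    rw [OneMemClass.coe_one, one_smul]
    by_cases hx : x ∈ Δ
    · exact mem_St.1 (BCor.oddCore_le hse hr2 hk) x hx
    · obtain ⟨g, rfl⟩ := htr x hx
      have h1 : g⁻¹ * k * g⁻¹⁻¹ ∈ Cfsg.pPrimeCore 2 H :=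
        (inferInstance : (Cfsg.pPrimeCore 2 H).Normal).conj_mem k hk g⁻¹
      have h2 := (memF _).1 (BCor.oddCore_le hse hr2 h1)
      rw [inv_inv, coe_mul, coe_mul, mul_smul, mul_smul, coe_inv, inv_smul_eq_iff] at h2
      exact h2
  obtain ⟨S, L, hS⟩ := BCor.exists_str BenderRed.benderSimple hse hO
  have memS : ∀ g, g ∈ (S : Subgroup H).map H.subtype ↔ g ∈ St G Δ ∧ Two g := by
    intro g
    constructor
    · rintro ⟨k, hk, rfl⟩
      obtain ⟨n, hn⟩ := two_of_mem S.isPGroup' hk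
      exact ⟨hS.le_H hk, n, congrArg Subtype.val hn⟩
    · rintro ⟨hg, n, hn⟩
      have h1 : IsPGroup 2 (zpowers (⟨g, hFH hg⟩ : H)) := isPGroup_of_two fun k hk => by
        obtain ⟨i, rfl⟩ := mem_zpowers_iff.1 hk
        refine ⟨n, ?_⟩
        rw [← zpow_natCast, ← zpow_mul, mul_comm, zpow_mul, zpow_natCast,
          show (⟨g, hFH hg⟩ : H) ^ 2 ^ n = 1 from Subtype.ext hn, one_zpow]
      have h2 : zpowers (⟨g, hFH hg⟩ : H) ≤ normalizer ((S : Subgroup H) : Set H) := by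
        rw [← hS.eq]
        exact zpowers_le.2 hg
      have h3 := S.is_maximal' (h1.to_sup_of_normal_right' S.isPGroup' h2) le_sup_right
      exact ⟨⟨g, hFH hg⟩, h3.le (le_sup_left (a := zpowers (⟨g, hFH hg⟩ : H)) (mem_zpowers _)),
        rfl⟩
  refine ⟨(S : Subgroup H).map H.subtype, ?_, ⟨fun g hg x hx hx' => hx ?_, fun x hx y hy => ?_,
    fun x hx g hg e => srb_semi' h ((memS g).1 hg).2 h4 ((memS g).1 hg).1 hx e⟩, memS⟩
  · have h1 := (bt_of_btype hS.isB.btype (S.subtype hS.le)).map (f := L.subtype) L.subtype_injective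
    rw [Sylow.coe_subtype, subgroupOf_map_subtype, inf_eq_left.2 hS.le] at h1
    exact h1.map H.subtype_injective
  · have := mem_St.1 ((memS g).1 hg).1 _ hx'
    rwa [smul_left_cancel g this] at hx'
  · obtain ⟨g1, rfl⟩ := htr x hx
    obtain ⟨g2, rfl⟩ := htr y hy
    obtain ⟨v, hv, e⟩ := hS.dc g1 g2 (fun e => hx (by rw [(memF _).1 e]; simp [hΔ]))
      (fun e => hy (by rw [(memF _).1 e]; simp [hΔ]))
    refine ⟨v, ⟨v, hv, rfl⟩, ?_⟩
    have := (memF _).1 e
    rwa [coe_mul, coe_mul, mul_smul, mul_smul, coe_inv, inv_smul_eq_iff] at this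

omit [Finite G] in
/-- an element of odd order moving at most three points is a 3-cycle -/
theorem srb_cyc {g : G} (hg1 : g ≠ 1) (ho : Odd (orderOf g))
    (h3 : (fixedBy Ω g)ᶜ.ncard ≤ 3) :
    ∃ x y z : Ω, x ≠ y ∧ x ≠ z ∧ y ≠ z ∧ Cyc Set.univ g x y z := by
  obtain ⟨x, hx⟩ : ∃ x : Ω, g • x ≠ x := by
    by_contra hc
    push Not at hc
    exact hg1 (FaithfulSMul.eq_of_smul_eq_smul (α := Ω) fun x => by rw [hc, one_smul])
  have h1 : g • g • x ≠ g • x := fun e => hx (smul_left_cancel g e)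
  have h2 : g • g • x ≠ x := fun e => by
    obtain ⟨i, hi⟩ := exists_pow_eq_self_of_coprime (x := g) (n := 2) (Nat.coprime_two_left.2 ho)
    have : g ^ 2 ∈ stabilizer G x := by rw [mem_stabilizer_iff, sq, mul_smul, e]
    exact hx (hi ▸ pow_mem this i)
  have h4 : g • g • g • x ≠ g • g • x := fun e => h1 (smul_left_cancel g e)
  have hset : ({x, g • x, g • g • x} : Set Ω) = (fixedBy Ω g)ᶜ :=
    Set.eq_of_subset_of_ncard_le (by
      intro z hz
      simp only [Set.mem_insert_iff, Set.mem_singleton_iff] at hz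
      rcases hz with rfl | rfl | rfl
      exacts [hx, h1, h4]) (by
      rw [Set.ncard_eq_three.2 ⟨_, _, _, hx.symm, h2.symm, h1.symm, rfl⟩]
      exact h3)
  refine ⟨x, g • x, g • g • x, hx.symm, h2.symm, h1.symm, rfl, rfl, ?_, fun z _ z1 z2 z3 => ?_⟩
  · have : g • g • g • x ∈ (fixedBy Ω g)ᶜ := fun e => h4 (smul_left_cancel g e)
    rw [← hset] at this
    simp only [Set.mem_insert_iff, Set.mem_singleton_iff] at this
    rcases this with e | e | e
    · exact e
    · exact absurd (smul_left_cancel g e) h2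
    · exact absurd e h4
  · by_contra hz
    have : z ∈ (fixedBy Ω g)ᶜ := hz
    rw [← hset] at this
    simp only [Set.mem_insert_iff, Set.mem_singleton_iff] at this
    tauto

theorem srb (h : SRH (⊤ : Subgroup G) (Set.univ : Set Ω)) {s t : G} (hs : orderOf s = 2)
    (ht : orderOf t = 2) (hc : s * t = t * s) (h4 : 4 ≤ (fixedBy Ω s ∩ fixedBy Ω t).ncard)
    (hne : s ≠ t) : Be (⊤ : Subgroup G) (Set.univ : Set Ω) := by
  classical
  have := Fintype.ofFinite Ω
  obtain ⟨a, ha, b, hb, c, hc', d, hd', hd⟩ := exists_D4_of_le h4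
  have hsF : s ∈ St G ({a, b, c, d} : Set Ω) := mem_St4.2 ⟨ha.1, hb.1, hc'.1, hd'.1⟩
  have htF : t ∈ St G ({a, b, c, d} : Set Ω) := mem_St4.2 ⟨ha.2, hb.2, hc'.2, hd'.2⟩
  obtain ⟨S, hBT, hRg, memS⟩ := srb_sylow h hs ht hc hne hd hsF htF
  set Δ : Set Ω := {a, b, c, d} with hΔ
  have h4Δ : Δ.ncard = 4 := hd.ncard
  have hs1 : s ≠ 1 := fun e => by simp [e] at hs
  have ht1 : t ≠ 1 := fun e => by simp [e] at ht
  have hss : s * s = 1 := by rw [← sq, ← hs, pow_orderOf_eq_one]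
  have hcompl : Δ.ncard + Δᶜ.ncard = Nat.card Ω := Set.ncard_add_ncard_compl Δ
  have h5 := h.five
  have hev := h.even
  rw [Set.ncard_univ] at h5 hev
  obtain ⟨x0, hx0⟩ : Δᶜ.Nonempty := (Set.ncard_pos (Set.toFinite _)).1 (by omega)
  have hsx : s • x0 ≠ x0 := fun e => hs1 (srb_semi' h (two_of_orderOf hs) h4Δ hsF hx0 e)
  have hsx' : s • x0 ∈ Δᶜ := hRg.inv s ((memS s).2 ⟨hsF, two_of_orderOf hs⟩) x0 hx0
  have hnm : ∀ x ∈ Δᶜ, x ≠ a ∧ x ≠ b ∧ x ≠ c ∧ x ≠ d := fun x hx => by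
    simpa [hΔ, not_or] using hx
  -- the conjugate `u` of `s` interchanging `a` and `b`
  obtain ⟨g, g1, g2, g3, g4⟩ := h.t4.top (show D4 x0 (s • x0) c d from
    ⟨hsx.symm, (hnm _ hx0).2.2.1, (hnm _ hx0).2.2.2, (hnm _ hsx').2.2.1, (hnm _ hsx').2.2.2,
      hd.2.2.2.2.2⟩) hd
  set u := g * s * g⁻¹ with hu
  have ua : u • a = b := by rw [← g1, conj_smul, g2]
  have ub : u • b = a := by rw [← g2, conj_smul, ← mul_smul s, hss, one_smul, g1]
  have uc : u • c = c := by
    conv_lhs => rw [← g3]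
    rw [conj_smul, hc'.1, g3]
  have ud : u • d = d := by
    conv_lhs => rw [← g4]
    rw [conj_smul, hd'.1, g4]
  have huu : u * u = 1 := by
    rw [hu, show g * s * g⁻¹ * (g * s * g⁻¹) = g * (s * s) * g⁻¹ by group, hss]; simp
  have huΔ : u • Δ = Δ := by
    simp only [hΔ, Set.smul_set_insert, Set.smul_set_singleton, ua, ub, uc, ud]
    exact Set.insert_comm _ _ _
  have huN : u ∈ normalizer (S : Set G) := mem_normalizer_fintype fun v hv =>
    (memS _).2 ⟨huΔ ▸ conj_mem_St ((memS v).1 hv).1 u, ((memS v).1 hv).2.conj u⟩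
  have hfs : (fixedBy Ω s).ncard = 4 := by
    refine le_antisymm ?_ (h4.trans (Set.ncard_le_ncard Set.inter_subset_left))
    by_contra h'
    exact hs1 (srb_semi h (two_of_orderOf hs) (by omega))
  have hfu : (Δᶜ ∩ fixedBy Ω u).ncard = 2 := by
    have e1 : Δᶜ ∩ fixedBy Ω u = fixedBy Ω u \ {c, d} := by
      ext x
      constructor
      · intro hx
        refine ⟨hx.2, ?_⟩
        simp [(hnm x hx.1).2.2]
      · intro hx
        refine ⟨?_, hx.1⟩
        have h1 := hx.2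
        have h2 : u • x = x := hx.1
        simp only [hΔ, Set.mem_compl_iff, Set.mem_insert_iff, Set.mem_singleton_iff, not_or]
          at h1 ⊢
        refine ⟨fun e => ?_, fun e => ?_, h1⟩
        · rw [e, ua] at h2; exact hd.1 h2.symm
        · rw [e, ub] at h2; exact hd.1 h2
    have e2 := Set.ncard_sdiff_add_ncard_of_subset (s := {c, d}) (t := fixedBy Ω u)
      (Set.insert_subset uc (Set.singleton_subset_iff.2 ud))
    have e3 : (fixedBy Ω u).ncard = 4 := by rw [hu, ncard_fixedBy_conj, hfs]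
    rw [Set.ncard_pair hd.2.2.2.2.2, e3] at e2
    rw [e1]
    omega
  obtain ⟨x1, hx1⟩ : (Δᶜ ∩ fixedBy Ω u).Nonempty := (Set.ncard_pos (Set.toFinite _)).1 (by omega)
  have hS4 : Nat.card S ≤ 4 :=
    hBT.card_le huu huN (by rw [← hRg.ncard_fix huN hx1.1 hx1.2, hfu])
  have hS3 : 3 ≤ Nat.card S := by
    have := Set.ncard_le_ncard (s := {1, s, t}) (t := (S : Set G)) (by
      intro z hz
      simp only [Set.mem_insert_iff, Set.mem_singleton_iff] at hz
      rcases hz with rfl | rfl | rfl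
      · exact one_mem S
      · exact (memS _).2 ⟨hsF, two_of_orderOf hs⟩
      · exact (memS _).2 ⟨htF, two_of_orderOf ht⟩)
    rw [Set.ncard_eq_three.2 ⟨_, _, _, hs1.symm, ht1.symm, hne, rfl⟩] at this
    exact this
  have hcS := hRg.card hx0
  have h8 : Nat.card Ω = 8 := by
    obtain ⟨m, hm⟩ := hev
    omega
  have h8' : Fintype.card Ω = 8 := by rw [← Nat.card_eq_fintype_card, h8]
  -- quintuple transitivity
  have hm5 : IsMultiplyPretransitive G Ω 5 := by
    have key : ∀ x : Fin 5 ↪ Ω, ∃ k : G, k • x 0 = a ∧ k • x 1 = b ∧ k • x 2 = c ∧ k • x 3 = d ∧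
        k • x 4 = x0 := by
      intro x
      obtain ⟨k, k0, k1, k2, k3⟩ := h.t4.top (show D4 (x 0) (x 1) (x 2) (x 3) by simp [D4]) hd
      have hk : k • x 4 ∈ Δᶜ := by
        rw [hΔ, ← k0, ← k1, ← k2, ← k3]
        simp
      obtain ⟨v, hv, e⟩ := hRg.tr _ hk _ hx0
      obtain ⟨v0, v1, v2, v3⟩ := mem_St4.1 ((memS v).1 hv).1
      exact ⟨v * k, by rw [mul_smul, k0, v0], by rw [mul_smul, k1, v1], by rw [mul_smul, k2, v2],
        by rw [mul_smul, k3, v3], by rw [mul_smul, e]⟩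
    rw [isMultiplyPretransitive_iff]
    intro x y
    obtain ⟨k, k0, k1, k2, k3, k4⟩ := key x
    obtain ⟨l, l0, l1, l2, l3, l4⟩ := key y
    refine ⟨l⁻¹ * k, Function.Embedding.ext fun i => ?_⟩
    change (l⁻¹ * k) • x i = y i
    rw [mul_smul, inv_smul_eq_iff]
    fin_cases i
    exacts [k0.trans l0.symm, k1.trans l1.symm, k2.trans l2.symm, k3.trans l3.symm,
      k4.trans l4.symm]
  obtain ⟨T, hT, w, hw, hw1⟩ : ∃ T : Finset Ω, T.card = 5 ∧ ∃ w : G, (∀ x ∈ T, w • x = x) ∧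
      w ≠ 1 := by
    by_contra hc''
    push Not at hc''
    have := Sharp.IsSharp.card_add 1 (Sharp.isSharp_of_finset hm5 hc'') (by omega)
    omega
  have hcyc : ∀ x y z : Ω, x ≠ y → x ≠ z → y ≠ z → ∃ k : G, Cyc Set.univ k x y z := by
    obtain ⟨v, o, hv, ho, hv', -, e⟩ := exists_two_odd w
    have hTw : w ∈ St G (T : Set Ω) := mem_St.2 hw
    have hle : ∀ k ∈ St G (T : Set Ω), 5 ≤ (fixedBy Ω k).ncard := fun k hk => by
      have := Set.ncard_le_ncard (s := (T : Set Ω)) (t := fixedBy Ω k) fun x hx => mem_St.1 hk x hx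
      rwa [Set.ncard_coe_finset, hT] at this
    rw [srb_semi h hv (hle v ((zpowers_le.2 hTw) hv')), one_mul] at e
    have h1 := Set.ncard_add_ncard_compl (fixedBy Ω w)
    have h2 := hle w hTw
    obtain ⟨x, y, z, xy, xz, yz, hcy⟩ := srb_cyc (Ω := Ω) hw1 (e ▸ ho) (by omega)
    exact cyc_all h.t4 (by omega) xy xz yz hcy
  have hA := alt_le hcyc
  have hnt : Nontrivial Ω := Finite.one_lt_card_iff_nontrivial.1 (by omega)
  refine ⟨by rw [Set.ncard_univ, h8], fun x _ y _ z _ xy xz yz => ?_, fun k _ hk hk1 => ?_, ?_⟩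
  · obtain ⟨k, hk⟩ := hcyc x y z xy xz yz
    exact ⟨k, trivial, hk⟩
  · rw [St_univ, mem_bot] at hk hk1
    rw [Set.univ_inter]
    have m1 := ncard_modEq (n := 1) (g := k) (S := (Set.univ : Set Ω)) Nat.prime_two (fun _ _ => trivial)
      (fun x _ => by rw [pow_one, sq, hk, one_smul])
    rw [Set.univ_inter, Set.ncard_univ, h8] at m1
    have m2 : (fixedBy Ω k).ncard ≤ 4 := by
      by_contra h'
      exact hk1 (srb_semi h (two_of_sq hk) (by omega))
    have m3 : (fixedBy Ω k).ncard ≠ 2 := by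
      intro h2
      have e1 := Perm2.ncard_fix_add_card_support (toPermHom G Ω k)
      have e2 : {x | toPermHom G Ω k x = x} = fixedBy Ω k := rfl
      rw [e2, h2, h8'] at e1
      have e3 := sign_invol (σ := toPermHom G Ω k) (by rw [← map_mul, hk, map_one])
      rw [show (toPermHom G Ω k).support.card = 6 by omega] at e3
      rcases Perm2.eq_top_or_eq_alternatingGroup hA with e | e
      · obtain ⟨l, hl⟩ : Equiv.swap a b ∈ (toPermHom G Ω).range := e ▸ mem_top _
        have f1 := Perm2.ncard_fix_add_card_support (toPermHom G Ω l)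
        have f2 : {x | toPermHom G Ω l x = x} = fixedBy Ω l := rfl
        rw [f2, hl, Equiv.Perm.card_support_swap hd.1, h8'] at f1
        have f3 : l * l = 1 := toPerm_injective (β := Ω) (by
          change toPermHom G Ω (l * l) = toPermHom G Ω 1
          rw [map_mul, hl, map_one, Equiv.swap_mul_self])
        have f4 := srb_semi h (two_of_sq f3) (by omega)
        rw [f4, map_one] at hl
        exact hd.1 (Equiv.swap_eq_one_iff.1 hl.symm)
      · have : toPermHom G Ω k ∈ alternatingGroup Ω := e ▸ ⟨k, rfl⟩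
        rw [Equiv.Perm.mem_alternatingGroup, e3] at this
        revert this
        decide
    unfold Nat.ModEq at m1
    omega
  · have e1 := card_dvd_of_le hA
    rw [nat_card_alternatingGroup, h8] at e1
    rw [card_top]
    exact (Dvd.dvd.trans (by decide) e1).trans (card_range_dvd _)

end CfsgLib.Frob4
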